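import Cfsg.Agent.H838.IF.Both
import Cfsg.Agent.H800.IFx.StepC
import Cfsg.Agent.H274.IF.UFour3
import Cfsg.Agent.H361.IFU.FourC
import Cfsg.Agent.H974.IFU.UFourRk

/-!
# S5719: the cell `CellsPSU.four` (helper838), from the pieces of helpers 847, 715, 411, 800, 248, 744, 811, 910, 274,
361, 838
-/

set_option autoImplicit false

namespace Cfsg.Agent.H838.IF

open Module Subgroup Cfsg Cfsg.Agent.H91.U Cfsg.Agent.H450.UF Cfsg.Agent.H450.Bs Cfsg.Agent.H209.Fxy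
open Cfsg.Agent.H77.Witt (formB)
open Cfsg.Agent.H847.IF (HA mem_HA pi_eq_one_iff pk_of_IF)

variable {F : Type*} [Field F] [Fintype F] {q : ℕ}

theorem killE_odd (hF : Fintype.card F = q ^ 2) (hq : Odd q) (h5 : 5 ≤ q) [hs : IsSimpleGroup (PSU 4 F q)] :
    KillE (PSU 4 F q) := by
  have hB := hform hF 4
  have hV : finrank F (Fin 4 → F) = 4 := by rw [finrank_fin_fun]
  have hsec : ∀ H : Subgroup ((Fin 4 → F) ≃ₗ[F] (Fin 4 → F)), Pk (formB hF 4) H → StepC (formB hF 4) H →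
      ∀ t ∈ H, ∀ m : F, m ^ (q + 1) = -1 → (∀ v, t (t v) = (m * m) • v) → False :=
    fun H hH hC t ht m hm h => Cfsg.Agent.H744.Pu4.no_second hB hF hV hq h5 hH hC ht hm h
  have href : ∀ H : Subgroup ((Fin 4 → F) ≃ₗ[F] (Fin 4 → F)), Pk (formB hF 4) H →
      ∀ t ∈ H, ∀ v : Fin 4 → F, formB hF 4 v v ≠ 0 → ∀ m : F, m ≠ 0 → t v = -(m • v) →
      (∀ u, formB hF 4 v u = 0 → t u = m • u) → False :=
    fun H hH t ht v hv m hm h1 h2 => Cfsg.Agent.H811.PU4.no_refl hB hF hV hq h5 hH ht hv hm h1 h2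
  have htyp := fun (t : (Fin 4 → F) ≃ₗ[F] (Fin 4 → F)) (ht : t ∈ SIso (formB hF 4)) (h1 : ¬ Scal t)
    (h2 : Scal (t * t)) => Cfsg.Agent.H910.IF.types hB hF hV hq ht h1 h2
  exact Cfsg.Agent.H847.IF.killE_odd hF (fun H hH => Cfsg.Agent.H800.IFx.stepC hB hF hV hq h5 hH) hsec href htyp
    (fun H hH hC P Q hP hQ s t h1 h2 h3 h4 h6 h7 h8 => no_comm hB hF hV hq h5 hH hC hP hQ h1 h2 h3 h4 h6 h7 h8)
    (Cfsg.Agent.H974.IFU.rank_one hF (Cfsg.Agent.H811.PU4.two_ne hF hq) hsec href htyp)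

/-- **the cell `CellsPSU.four`** -/
theorem psu_four : ∀ (F : Type) [Field F] [Fintype F] (q : ℕ), Fintype.card F = q ^ 2 → IsSimpleGroup (PSU 4 F q) →
    KillE (PSU 4 F q) :=
  Cfsg.Agent.H847.IF.four_of
    (fun F _ _ hF hs => Cfsg.Agent.H274.IF.UFour.three hF)
    (fun F _ _ q hF he hs => Cfsg.Agent.H361.IFU4.even hF he)
    (fun F _ _ q hF ho h5 hs => killE_odd hF ho h5)

end Cfsg.Agent.H838.IF
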